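import Cfsg.Agent.Tits.Roots
import Cfsg.Agent.Tits.Core
import Cfsg.Agent.Tits.Exchange
import Cfsg.Agent.Nodes.Bruhat
import Cfsg.Agent.Nodes.RGDLib
import Mathlib
import Cfsg.Agent.S0102
import Cfsg.Agent.Nodes.HasRGD
import Cfsg.Agent.FastGrp
import Cfsg.Agent.Prune
set_option linter.all false

section
prune_inst 0x7f00000000000000000000000000000000000000000000000000000000000000000000000000000000000000000000000000000000000000000000000000000000000000000000000000000000000000003fffffffffffffffffffffffffffbeffbdffffffff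

-- part: H410/TwoTransRGD
section
set_option linter.all false
open scoped Cfsg.Agent.FastGrp

-- part: H410/CoxTwo
section
/-!
# Two double cosets of a maximal parabolic subgroup of a finite Weyl group (helper410)

`W` a finite Coxeter group with a Cartan matrix, `s` a node, `W' = ⟨s_j : j ≠ s⟩`, and `W' v W' = W' w W'` for all
`v, w` outside `W'` (`TwoT`). Then the simple reflections act on the orbit of a fundamental weight as transpositions:
if the diagram is connected there are no multiple bonds (`le_three`) and no branch nodes (`no_branch`).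
-/

set_option autoImplicit false

namespace Cfsg.Agent.H410.CoxTwo

open CoxeterSystem Cfsg.Agent.ChevalleyStructure.CoxeterGeom Cfsg.Agent.Tits.Roots Cfsg.Agent.Tits.Core
  Cfsg.Agent.Tits.Exchange

variable {I W : Type*} [Fintype I] [DecidableEq I] [Group W] [Fintype W] {M : CoxeterMatrix I}
  (cs : CoxeterSystem M W) {A : I → I → ℤ} (h : IsCartan M A)

omit [Fintype W] in
theorem rep_apply_self {s : I} {u : W} (hu : u ∈ WJ cs {s}ᶜ) (x : I → ℤ) : (rep cs h u x) s = x s := by
  obtain ⟨ω, hω, rfl⟩ := exists_word_of_mem_WJ cs hu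
  clear hu
  induction ω with
  | nil => rw [wordProd_nil, map_one, Module.End.one_apply]
  | cons i ω ih =>
    have hi : s ≠ i := fun e => hω i (by simp) (by rw [e]; rfl)
    rw [wordProd_cons, rep_mul_apply, rep_simple_apply cs h i _ s hi]
    exact ih fun j hj => hω j (by simp [hj])

open Classical in
/-- a dominant vector fixed by `⟨s_j : j ≠ s⟩` -/
noncomputable def lam (s : I) : I → ℤ :=
  ∑ w ∈ (Finset.univ : Finset W).filter (fun w => w ∈ WJ cs {s}ᶜ), rep cs h w (sr s)

theorem lam_fix {s : I} {u : W} (hu : u ∈ WJ cs {s}ᶜ) : rep cs h u (lam cs h s) = lam cs h s := by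
  classical
  unfold lam
  rw [map_sum]
  refine Finset.sum_bij (fun w _ => u * w) ?_ ?_ ?_ ?_
  · intro w hw
    simp only [Finset.mem_filter, Finset.mem_univ, true_and] at hw ⊢
    exact mul_mem hu hw
  · intro w _ w' _ e
    exact mul_left_cancel e
  · intro w hw
    simp only [Finset.mem_filter, Finset.mem_univ, true_and] at hw
    refine ⟨u⁻¹ * w, ?_, by group⟩
    simp only [Finset.mem_filter, Finset.mem_univ, true_and]
    exact mul_mem (inv_mem hu) hw
  · intro w _
    rw [rep_mul_apply]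

theorem lam_self (s : I) : 0 < lam cs h s s := by
  classical
  unfold lam
  rw [Finset.sum_apply]
  refine Finset.sum_pos ?_ ⟨1, ?_⟩
  · intro w hw
    simp only [Finset.mem_filter, Finset.mem_univ, true_and] at hw
    rw [rep_apply_self cs h hw, sr_self]
    exact one_pos
  · simp only [Finset.mem_filter, Finset.mem_univ, true_and]
    exact one_mem _

theorem pairing_lam {s j : I} (hj : j ≠ s) : pairing A j (lam cs h s) = 0 := by
  have h1 := lam_fix cs h (s := s) (u := cs.simple j) (simple_mem_WJ cs (by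
    intro e
    exact hj e))
  rw [rep_simple_eq] at h1
  have h2 := congrFun h1 j
  rw [Pi.sub_apply, Pi.smul_apply, sr_self, smul_eq_mul, mul_one] at h2
  linarith

theorem pairing_lam_self (s : I) : 0 < pairing A s (lam cs h s) := by
  have h1 : lam cs h s ≠ 0 := by
    intro h0
    have := lam_self cs h s
    rw [h0] at this
    exact absurd this (by simp)
  have h2 := form_pos cs h h1
  rw [form_eq_sum] at h2
  have h3 : ∑ k, lam cs h s k * form cs h (lam cs h s) (sr k) = lam cs h s s * form cs h (lam cs h s) (sr s) := by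
    refine Finset.sum_eq_single s (fun k _ hk => ?_) (fun hs => absurd (Finset.mem_univ s) hs)
    have h4 := two_form cs h k (lam cs h s)
    rw [pairing_lam cs h hk, zero_mul] at h4
    have h5 : form cs h (lam cs h s) (sr k) = 0 := by linarith
    rw [h5, mul_zero]
  rw [h3] at h2
  have h4 := lam_self cs h s
  have h5 : 0 < form cs h (lam cs h s) (sr s) := by
    by_contra hcon
    have := mul_nonpos_of_nonneg_of_nonpos h4.le (not_lt.1 hcon)
    linarith
  exact (form_sr_pos_iff cs h s _).1 h5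

omit [Fintype W] [Fintype I] [DecidableEq I] in
/-- all elements outside `⟨s_j : j ≠ s⟩` lie in one double coset -/
def TwoT (s : I) : Prop := ∀ v w : W, v ∉ WJ cs {s}ᶜ → w ∉ WJ cs {s}ᶜ →
  ∃ a ∈ WJ cs {s}ᶜ, ∃ b ∈ WJ cs {s}ᶜ, w = a * v * b

/-- the orbit of the weight -/
def Orb (s : I) (μ : I → ℤ) : Prop := ∃ w, μ = rep cs h w (lam cs h s)

variable {cs h} {s : I}

theorem Orb.act {μ : I → ℤ} (hμ : Orb cs h s μ) (w : W) : Orb cs h s (rep cs h w μ) := by
  obtain ⟨v, rfl⟩ := hμ
  exact ⟨w * v, by rw [rep_mul_apply]⟩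

/-- the common norm of the differences -/
theorem norm_eq (hT : TwoT cs s) {v w : W} (hv : v ∉ WJ cs {s}ᶜ) (hw : w ∉ WJ cs {s}ᶜ) :
    form cs h (lam cs h s - rep cs h w (lam cs h s)) (lam cs h s - rep cs h w (lam cs h s)) =
      form cs h (lam cs h s - rep cs h v (lam cs h s)) (lam cs h s - rep cs h v (lam cs h s)) := by
  obtain ⟨a, ha, b, hb, rfl⟩ := hT v w hv hw
  have h1 : lam cs h s - rep cs h (a * v * b) (lam cs h s) =
      rep cs h a (lam cs h s - rep cs h v (lam cs h s)) := by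
    rw [map_sub, lam_fix cs h ha, rep_mul_apply, rep_mul_apply, lam_fix cs h hb]
  rw [h1, form_rep]

theorem norm_orb (hT : TwoT cs s) {μ ν μ' ν' : I → ℤ} (hμ : Orb cs h s μ) (hν : Orb cs h s ν)
    (hμ' : Orb cs h s μ') (hν' : Orb cs h s ν') (hne : μ ≠ ν) (hne' : μ' ≠ ν') :
    form cs h (μ - ν) (μ - ν) = form cs h (μ' - ν') (μ' - ν') := by
  obtain ⟨v, rfl⟩ := hμ
  obtain ⟨w, rfl⟩ := hν
  obtain ⟨v', rfl⟩ := hμ'
  obtain ⟨w', rfl⟩ := hν'
  have key : ∀ a b : W, rep cs h a (lam cs h s) - rep cs h b (lam cs h s) =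
      rep cs h a (lam cs h s - rep cs h (a⁻¹ * b) (lam cs h s)) := by
    intro a b
    rw [map_sub, ← rep_mul_apply, mul_inv_cancel_left]
  have key2 : ∀ a b : W, rep cs h a (lam cs h s) ≠ rep cs h b (lam cs h s) → a⁻¹ * b ∉ WJ cs {s}ᶜ := by
    intro a b hab hm
    apply hab
    have h1 := lam_fix cs h hm
    have h2 := congrArg (rep cs h a) h1
    rw [← rep_mul_apply, mul_inv_cancel_left] at h2
    exact h2.symm
  rw [key, key, form_rep, form_rep]
  exact norm_eq hT (key2 _ _ hne') (key2 _ _ hne)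

omit [Fintype W] [DecidableEq I] in
theorem pairing_sub (i : I) (x y : I → ℤ) : pairing A i (x - y) = pairing A i x - pairing A i y := by
  have h1 := pairing_add A i (x - y) y
  rw [sub_add_cancel] at h1
  linarith

omit [Fintype W] in
theorem pairing_simple_self (i : I) (x : I → ℤ) : pairing A i (rep cs h (cs.simple i) x) = - pairing A i x := by
  rw [rep_simple_eq, pairing_sub, pairing_smul, sr, pairing_single, h.diag]
  ring

omit [Fintype W] in
theorem pairing_simple (i k : I) (x : I → ℤ) :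
    pairing A k (rep cs h (cs.simple i) x) = pairing A k x - pairing A i x * A k i := by
  rw [rep_simple_eq, pairing_sub, pairing_smul, sr, pairing_single, mul_one]

omit [Fintype W] in
theorem simple_simple (i : I) (x : I → ℤ) : rep cs h (cs.simple i) (rep cs h (cs.simple i) x) = x := by
  rw [← rep_mul_apply, cs.simple_mul_simple_self, map_one, Module.End.one_apply]

/-- **at most one vector of the orbit is moved down by `s_i`** -/
theorem unique_pos (hT : TwoT cs s) {i : I} {μ ν : I → ℤ} (hμ : Orb cs h s μ) (hν : Orb cs h s ν)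
    (h1 : 0 < pairing A i μ) (h2 : 0 < pairing A i ν) : μ = ν := by
  by_contra hne
  have e1 : μ - rep cs h (cs.simple i) μ = pairing A i μ • sr i := by rw [rep_simple_eq]; abel
  have e2 : ν - rep cs h (cs.simple i) ν = pairing A i ν • sr i := by rw [rep_simple_eq]; abel
  have ne1 : μ ≠ rep cs h (cs.simple i) μ := by
    intro e
    have := pairing_simple_self (cs := cs) (h := h) i μ
    rw [← e] at this
    linarith
  have ne2 : ν ≠ rep cs h (cs.simple i) ν := by
    intro e
    have := pairing_simple_self (cs := cs) (h := h) i ν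
    rw [← e] at this
    linarith
  have n1 := norm_orb hT hμ (hμ.act (cs.simple i)) hμ hν ne1 hne
  have n2 := norm_orb hT hν (hν.act (cs.simple i)) hμ hν ne2 hne
  rw [e1, form_smul_left, form_smul_right] at n1
  rw [e2, form_smul_left, form_smul_right] at n2
  set δ := form cs h (μ - ν) (μ - ν) with hδ
  set N := form cs h (sr i) (sr i) with hN
  have hN0 : 0 < N := form_pos cs h (sr_ne_zero i)
  have hc : pairing A i μ = pairing A i ν := by
    have h3 : pairing A i μ * pairing A i μ = pairing A i ν * pairing A i ν := by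
      have : pairing A i μ * pairing A i μ * N = pairing A i ν * pairing A i ν * N := by
        rw [mul_assoc, mul_assoc, n1, n2]
      exact mul_right_cancel₀ hN0.ne' this
    nlinarith
  -- the vector `μ - s_i ν`
  have e3 : μ - rep cs h (cs.simple i) ν = (μ - ν) + pairing A i ν • sr i := by rw [rep_simple_eq]; abel
  have ne3 : μ ≠ rep cs h (cs.simple i) ν := by
    intro e
    have := pairing_simple_self (cs := cs) (h := h) i ν
    rw [← e] at this
    linarith
  have n3 := norm_orb hT hμ (hν.act (cs.simple i)) hμ hν ne3 hne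
  have h0 : form cs h (μ - ν) (sr i) = 0 := by
    have := two_form cs h i (μ - ν)
    rw [pairing_sub, hc, sub_self, zero_mul] at this
    linarith
  rw [e3, form_add_left, form_add_right, form_add_right, form_smul_right, form_smul_left, form_smul_left,
    form_smul_right, h0, form_comm cs h (sr i) (μ - ν), h0, ← hδ, ← hN, n2] at n3
  have h5 : 0 < δ := form_pos cs h (sub_ne_zero.2 hne)
  linarith

/-- every node moves a vector of the orbit -/
theorem exists_pos (hconn : ∀ J : Set I, J.Nonempty → J ≠ Set.univ → ∃ a ∈ J, ∃ b, b ∉ J ∧ M a b ≠ 2) (i : I) :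
    ∃ μ, Orb cs h s μ ∧ 0 < pairing A i μ := by
  by_contra hi
  obtain ⟨a, ha, b, hb, hab⟩ := hconn {i | ∃ μ, Orb cs h s μ ∧ 0 < pairing A i μ}
    ⟨s, lam cs h s, ⟨1, by rw [map_one, Module.End.one_apply]⟩, pairing_lam_self cs h s⟩
    (fun hu => hi (by
      have : i ∈ {i | ∃ μ, Orb cs h s μ ∧ 0 < pairing A i μ} := by rw [hu]; trivial
      exact this))
  obtain ⟨μ, hμ, hpos⟩ := ha
  apply hb
  have hne : a ≠ b := by
    rintro rfl
    exact hb ⟨μ, hμ, hpos⟩
  have hA : A b a < 0 := cartan_neg h hne.symm (by rwa [M.symmetric])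
  rcases lt_or_ge (pairing A b μ) 0 with h1 | h1
  · exact ⟨_, hμ.act (cs.simple b), by rw [pairing_simple_self]; linarith⟩
  · refine ⟨_, hμ.act (cs.simple a), ?_⟩
    rw [pairing_simple]
    have := mul_neg_of_pos_of_neg hpos hA
    linarith

omit [Fintype W] in
theorem simple_ne {i : I} {μ : I → ℤ} (h1 : 0 < pairing A i μ) : rep cs h (cs.simple i) μ ≠ μ := by
  intro e
  have := pairing_simple_self (cs := cs) (h := h) i μ
  rw [e] at this
  linarith

/-- the vectors moved by adjacent nodes -/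
theorem share (hT : TwoT cs s) {i k : I} (hik : i ≠ k) (hM : M i k ≠ 2) {μ ν : I → ℤ} (hμ : Orb cs h s μ)
    (hν : Orb cs h s ν) (h1 : 0 < pairing A i μ) (h2 : 0 < pairing A k ν) :
    (rep cs h (cs.simple i) μ = ν ∨ μ = rep cs h (cs.simple k) ν) ∧ pairing A k ν = - (pairing A i μ * A k i) := by
  have hA : A k i < 0 := cartan_neg h hik.symm (by rwa [M.symmetric])
  have hneg : pairing A i μ * A k i < 0 := mul_neg_of_pos_of_neg h1 hA
  have hi : pairing A k (rep cs h (cs.simple i) μ) = pairing A k μ - pairing A i μ * A k i := pairing_simple i k μ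
  rcases lt_trichotomy (pairing A k μ) 0 with h3 | h3 | h3
  · have e1 : rep cs h (cs.simple k) μ = ν :=
      unique_pos hT (hμ.act _) hν (by rw [pairing_simple_self]; linarith) h2
    have e2 : μ = rep cs h (cs.simple k) ν := by rw [← e1, simple_simple]
    have e3 : pairing A k μ = - pairing A k ν := by
      conv_lhs => rw [e2]
      exact pairing_simple_self k ν
    refine ⟨Or.inr e2, ?_⟩
    rcases lt_trichotomy (pairing A k (rep cs h (cs.simple i) μ)) 0 with h4 | h4 | h4
    · exfalso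
      have e4 : rep cs h (cs.simple k) (rep cs h (cs.simple i) μ) = ν :=
        unique_pos hT ((hμ.act _).act _) hν (by rw [pairing_simple_self]; linarith) h2
      have e5 : rep cs h (cs.simple i) μ = rep cs h (cs.simple k) ν := by rw [← e4, simple_simple]
      exact simple_ne h1 (e5.trans e2.symm)
    · rw [hi, e3] at h4
      linarith
    · exfalso
      have e4 : rep cs h (cs.simple i) μ = ν := unique_pos hT (hμ.act _) hν h4 h2
      -- `c_i α_i = μ - s_i μ = s_k ν - ν = - c_k α_k`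
      have e5 : μ - rep cs h (cs.simple i) μ = pairing A i μ • sr i := by rw [rep_simple_eq]; abel
      have e6 : rep cs h (cs.simple k) ν - ν = - (pairing A k ν • sr k) := by rw [rep_simple_eq]; abel
      rw [e4] at e5
      rw [← e2, e5] at e6
      have e7 := congrFun e6 i
      rw [Pi.smul_apply, sr_self, Pi.neg_apply, Pi.smul_apply, sr_ne hik, smul_zero, neg_zero, smul_eq_mul,
        mul_one] at e7
      linarith
  · have e1 : rep cs h (cs.simple i) μ = ν := unique_pos hT (hμ.act _) hν (by rw [hi]; linarith) h2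
    refine ⟨Or.inl e1, ?_⟩
    rw [e1, h3] at hi
    linarith
  · exfalso
    have e1 : μ = ν := unique_pos hT hμ hν h3 h2
    have e2 : rep cs h (cs.simple i) μ = ν := unique_pos hT (hμ.act _) hν (by rw [hi]; linarith) h2
    exact simple_ne h1 (e2.trans e1.symm)

variable (hconn : ∀ J : Set I, J.Nonempty → J ≠ Set.univ → ∃ a ∈ J, ∃ b, b ∉ J ∧ M a b ≠ 2)

include hconn h

theorem bond (hT : TwoT cs s) {i k : I} (hik : i ≠ k) (hM : M i k ≠ 2) : A i k * A k i = 1 := by
  obtain ⟨μ, hμ, h1⟩ := exists_pos (cs := cs) (h := h) (s := s) hconn i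
  obtain ⟨ν, hν, h2⟩ := exists_pos (cs := cs) (h := h) (s := s) hconn k
  have e1 := (share hT hik hM hμ hν h1 h2).2
  have e2 := (share hT hik.symm (by rwa [M.symmetric]) hν hμ h2 h1).2
  have e3 : pairing A i μ * 1 = pairing A i μ * (A i k * A k i) := by
    rw [mul_one]
    conv_lhs => rw [e2, e1]
    ring
  exact (mul_left_cancel₀ h1.ne' e3).symm

/-- **No multiple bonds.** -/
theorem le_three (hT : TwoT cs s) {i k : I} (hik : i ≠ k) : M i k = 2 ∨ M i k = 3 := by
  rcases h.rel i k hik with h1 | h1 | h1 | h1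
  · exact Or.inl h1.1
  · exact Or.inr h1.1
  · exfalso
    have := bond (h := h) hconn hT hik (by rw [h1.1]; decide)
    rcases h1.2 with h2 | h2 <;> rw [h2.1, h2.2] at this <;> exact absurd this (by decide)
  · exfalso
    have := bond (h := h) hconn hT hik (by rw [h1.1]; decide)
    rcases h1.2 with h2 | h2 <;> rw [h2.1, h2.2] at this <;> exact absurd this (by decide)

/-- **No branch nodes.** -/
theorem no_branch (hT : TwoT cs s) {k i₁ i₂ i₃ : I} (h1k : i₁ ≠ k) (h2k : i₂ ≠ k) (h3k : i₃ ≠ k)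
    (h12 : i₁ ≠ i₂) (h13 : i₁ ≠ i₃) (h23 : i₂ ≠ i₃) (m1 : M i₁ k ≠ 2) (m2 : M i₂ k ≠ 2) (m3 : M i₃ k ≠ 2) :
    False := by
  obtain ⟨ν, hν, hνk⟩ := exists_pos (cs := cs) (h := h) (s := s) hconn k
  obtain ⟨μ₁, hμ₁, p1⟩ := exists_pos (cs := cs) (h := h) (s := s) hconn i₁
  obtain ⟨μ₂, hμ₂, p2⟩ := exists_pos (cs := cs) (h := h) (s := s) hconn i₂
  obtain ⟨μ₃, hμ₃, p3⟩ := exists_pos (cs := cs) (h := h) (s := s) hconn i₃
  -- two neighbours of the same kind are impossible
  have keyA : ∀ i j : I, i ≠ j → ∀ μ μ' : I → ℤ, Orb cs h s μ → Orb cs h s μ' → 0 < pairing A i μ →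
      0 < pairing A j μ' → rep cs h (cs.simple i) μ = ν → rep cs h (cs.simple j) μ' = ν → False := by
    intro i j hij μ μ' hμ hμ' q1 q2 e1 e2
    have h1 : pairing A j μ < 0 := by
      have e3 : μ = rep cs h (cs.simple i) ν := by rw [← e1, simple_simple]
      have e4 : pairing A i ν = - pairing A i μ := by rw [← e1]; exact pairing_simple_self i μ
      have e5 : pairing A j ν = - pairing A j μ' := by rw [← e2]; exact pairing_simple_self j μ'
      have e6 : pairing A j μ = pairing A j ν - pairing A i ν * A j i := by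
        conv_lhs => rw [e3]
        exact pairing_simple i j ν
      have hA : A j i ≤ 0 := cartan_nonpos h hij.symm
      rw [e6, e5, e4]
      have := mul_nonpos_of_nonneg_of_nonpos q1.le hA
      linarith
    have h2 : rep cs h (cs.simple j) μ = μ' :=
      unique_pos hT (hμ.act _) hμ' (by rw [pairing_simple_self]; linarith) q2
    have h3 : μ = ν := by rw [← e2, ← h2, simple_simple]
    exact simple_ne q1 (e1.trans h3.symm)
  have keyB : ∀ i j : I, i ≠ j → ∀ μ μ' : I → ℤ, Orb cs h s μ → Orb cs h s μ' → 0 < pairing A i μ →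
      0 < pairing A j μ' → μ = rep cs h (cs.simple k) ν → μ' = rep cs h (cs.simple k) ν → False := by
    intro i j hij μ μ' hμ hμ' q1 q2 e1 e2
    have e3 : μ = μ' := e1.trans e2.symm
    subst e3
    have hA : A j i ≤ 0 := cartan_nonpos h hij.symm
    have h1 : 0 < pairing A j (rep cs h (cs.simple i) μ) := by
      rw [pairing_simple]
      have := mul_nonpos_of_nonneg_of_nonpos q1.le hA
      linarith
    exact simple_ne q1 (unique_pos hT (hμ.act _) hμ h1 q2)
  rcases (share hT h1k m1 hμ₁ hν p1 hνk).1 with c1 | c1 <;> rcases (share hT h2k m2 hμ₂ hν p2 hνk).1 with c2 | c2 <;>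
    rcases (share hT h3k m3 hμ₃ hν p3 hνk).1 with c3 | c3
  · exact keyA _ _ h12 _ _ hμ₁ hμ₂ p1 p2 c1 c2
  · exact keyA _ _ h12 _ _ hμ₁ hμ₂ p1 p2 c1 c2
  · exact keyA _ _ h13 _ _ hμ₁ hμ₃ p1 p3 c1 c3
  · exact keyB _ _ h23 _ _ hμ₂ hμ₃ p2 p3 c2 c3
  · exact keyA _ _ h23 _ _ hμ₂ hμ₃ p2 p3 c2 c3
  · exact keyB _ _ h13 _ _ hμ₁ hμ₃ p1 p3 c1 c3
  · exact keyB _ _ h12 _ _ hμ₁ hμ₂ p1 p2 c1 c2
  · exact keyB _ _ h12 _ _ hμ₁ hμ₂ p1 p2 c1 c2

/-- **The node of a doubly transitive parabolic is an end node.** -/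
theorem end_node (hT : TwoT cs s) {i₁ i₂ : I} (h1 : i₁ ≠ s) (h2 : i₂ ≠ s) (m1 : M i₁ s ≠ 2) (m2 : M i₂ s ≠ 2) :
    i₁ = i₂ := by
  by_contra h12
  obtain ⟨μ₁, hμ₁, p1⟩ := exists_pos (cs := cs) (h := h) (s := s) hconn i₁
  obtain ⟨μ₂, hμ₂, p2⟩ := exists_pos (cs := cs) (h := h) (s := s) hconn i₂
  have hl : Orb cs h s (lam cs h s) := ⟨1, by rw [map_one, Module.End.one_apply]⟩
  have key : ∀ i, i ≠ s → M i s ≠ 2 → ∀ μ, Orb cs h s μ → 0 < pairing A i μ →
      μ = rep cs h (cs.simple s) (lam cs h s) := by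
    intro i hi mi μ hμ q
    rcases (share hT hi mi hμ hl q (pairing_lam_self cs h s)).1 with c | c
    · exfalso
      have e1 := pairing_simple_self (cs := cs) (h := h) i μ
      rw [c, pairing_lam cs h hi] at e1
      linarith
    · exact c
  have e1 := key i₁ h1 m1 μ₁ hμ₁ p1
  have e2 := key i₂ h2 m2 μ₂ hμ₂ p2
  have e3 : μ₁ = μ₂ := e1.trans e2.symm
  subst e3
  have hA : A i₂ i₁ ≤ 0 := cartan_nonpos h (Ne.symm h12)
  have h3 : 0 < pairing A i₂ (rep cs h (cs.simple i₁) μ₁) := by
    rw [pairing_simple]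
    have := mul_nonpos_of_nonneg_of_nonpos p1.le hA
    linarith
  exact simple_ne p1 (unique_pos hT (hμ₁.act _) hμ₁ h3 p2)

end Cfsg.Agent.H410.CoxTwo
end

-- part: H410/TwoTransRGD
section
/-!
# Tits' lemma for root group data, and 2-transitive actions (helper410)

`R : RGD cs h p T n X` in `Y`, `U = RGD.Sup X (RGD.Pos cs h)`, `H` a subgroup containing `U`.

* `JH H` : the nodes `i` with `X (-α_i) ≤ H`; `mem_WJ_iff` : `w ∈ W_J` iff `w` has a representative in `H`
  (**Tits' lemma**); `cell_mem` : `H` lies in the cells over `W_J`;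
* `exists_not_mem` : `H ≠ ⊤` and `Y` generated by the root groups: some node is not in `JH H`;
* `twoT` : if `Y` is 2-transitive on `Ω` and `H` is a point stabiliser, then `CoxTwo.TwoT`;
* `conn_of_simple` : the diagram of a simple group is connected;
* `bonds` : all bonds are simple and there are no branch nodes (the diagram is of type `A`).
-/

set_option autoImplicit false
set_option linter.unusedSectionVars false

namespace Cfsg.Agent.H410.TwoTransRGD

open CoxeterSystem Cfsg.Agent.ChevalleyStructure.CoxeterGeom Cfsg.Agent.Tits.Roots Cfsg.Agent.Tits.Core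
  Cfsg.Agent.Tits.Exchange Cfsg.Agent.Nodes.Reps Cfsg.Agent.Nodes.BNOf Cfsg.Agent.Nodes.Bruhat
  Cfsg.Agent.Nodes.RGDLib

variable {I W Y : Type*} [Fintype I] [DecidableEq I] [Group W] [Group Y] {M : CoxeterMatrix I}
  {cs : CoxeterSystem M W} {A : I → I → ℤ} {h : IsCartan M A} {p : ℕ} {T : Subgroup Y} {n : I → Y}
  {X : (I → ℤ) → Subgroup Y}

/-- the nodes `i` with `X (-α_i) ≤ H` -/
def JH (X : (I → ℤ) → Subgroup Y) (H : Subgroup Y) : Set I := {i | X (-sr i) ≤ H}

variable (R : RGD cs h p T n X) {H : Subgroup Y}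

include R

theorem neg_le_of_rp (hU : RGD.Sup X (RGD.Pos cs h) ≤ H) {w : W} {g : Y} (hg : Rp cs R.nsys w g) (hgH : g ∈ H)
    {i : I} (hi : ¬ 0 ≤ rep cs h w⁻¹ (sr i)) : i ∈ JH X H := by
  intro x hx
  have hroot : IsRoot cs h (rep cs h w⁻¹ (sr i)) := ⟨_, _, rfl⟩
  have h1 := (hroot.not_nonneg_iff_neg).1 hi
  have h2 : g⁻¹ * x * g ∈ X (rep cs h w⁻¹ (-sr i)) := R.conj_mem' hg (isRoot_sr cs h i).neg hx
  rw [map_neg] at h2
  have h3 : g⁻¹ * x * g ∈ H := hU (RGD.le_Sup (S := RGD.Pos cs h) ⟨hroot.neg, h1⟩ h2)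
  have h4 : x = g * (g⁻¹ * x * g) * g⁻¹ := by group
  rw [h4]
  exact mul_mem (mul_mem hgH h3) (inv_mem hgH)

theorem exists_rp_of_mem (hU : RGD.Sup X (RGD.Pos cs h) ≤ H) {i : I} (hi : i ∈ JH X H) :
    ∃ k ∈ H, Rp cs R.nsys (cs.simple i) k := by
  have h0 := X_ne_bot R (isRoot_sr cs h i).neg
  obtain ⟨u, hu, hu1⟩ : ∃ u ∈ X (-sr i), u ≠ 1 := by
    by_contra hcon
    push Not at hcon
    exact h0 ((Subgroup.eq_bot_iff_forall _).2 hcon)
  obtain ⟨a, ha, t, ht, b, hb, e⟩ := R.rk1 i u hu hu1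
  have haH : a ∈ H := hU (RGD.le_Sup (S := RGD.Pos cs h) ⟨isRoot_sr cs h i, sr_nonneg i⟩ ha)
  have hbH : b ∈ H := hU (RGD.le_Sup (S := RGD.Pos cs h) ⟨isRoot_sr cs h i, sr_nonneg i⟩ hb)
  refine ⟨t * n i, ?_, ?_⟩
  · have : t * n i = a⁻¹ * u * b⁻¹ := by rw [e]; group
    rw [this]
    exact mul_mem (mul_mem (inv_mem haH) (hi hu)) (inv_mem hbH)
  · have := (rp_of_mem (cs := cs) (hN := R.nsys) ht).mul (rp_simple cs R.nsys i)
    rwa [one_mul] at this

theorem exists_rp_of_mem_WJ (hU : RGD.Sup X (RGD.Pos cs h) ≤ H) {w : W} (hw : w ∈ WJ cs (JH X H)) :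
    ∃ k ∈ H, Rp cs R.nsys w k := by
  obtain ⟨ω, hω, rfl⟩ := exists_word_of_mem_WJ cs hw
  clear hw
  induction ω with
  | nil => exact ⟨1, one_mem _, by rw [wordProd_nil]; exact rp_one⟩
  | cons i ω ih =>
    obtain ⟨k, hk, hk'⟩ := ih fun j hj => hω j (by simp [hj])
    obtain ⟨m, hm, hm'⟩ := exists_rp_of_mem R hU (hω i (by simp))
    exact ⟨m * k, mul_mem hm hk, by rw [wordProd_cons]; exact hm'.mul hk'⟩

/-- **Tits' lemma**, on representatives. -/
theorem mem_WJ_of_rp (hU : RGD.Sup X (RGD.Pos cs h) ≤ H) : ∀ {w : W} {g : Y}, Rp cs R.nsys w g → g ∈ H →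
    w ∈ WJ cs (JH X H) := by
  intro w
  induction hn : cs.length w using Nat.strong_induction_on generalizing w with
  | _ N ih =>
  intro g hg hgH
  by_cases h1 : w = 1
  · rw [h1]; exact one_mem _
  obtain ⟨i, hi⟩ := cs.exists_leftDescent_of_ne_one h1
  have hlt : cs.length (cs.simple i * w) < cs.length w := hi
  have hneg : ¬ 0 ≤ rep cs h w⁻¹ (sr i) := by
    intro h2
    have h3 := (lt_iff' cs h w⁻¹ i).2 h2
    rw [cs.length_inv, ← cs.length_inv (w⁻¹ * cs.simple i), mul_inv_rev, inv_inv, cs.inv_simple] at h3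
    omega
  have hiJ := neg_le_of_rp R hU hg hgH hneg
  obtain ⟨k, hk, hk'⟩ := exists_rp_of_mem R hU hiJ
  have h2 : Rp cs R.nsys (cs.simple i * w) (k⁻¹ * g) := by
    have := hk'.inv.mul hg
    rwa [cs.inv_simple] at this
  have h3 := ih _ (by rw [← hn]; exact hlt) rfl h2 (mul_mem (inv_mem hk) hgH)
  have h4 := mul_mem (simple_mem_WJ cs hiJ) h3
  rwa [cs.simple_mul_simple_cancel_left] at h4

/-- **Tits' lemma**, on cells. -/
theorem cell_mem (hU : RGD.Sup X (RGD.Pos cs h) ≤ H) {w : W} {g : Y} (hc : Cell R.nsys cs h X w g)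
    (hg : g ∈ H) : w ∈ WJ cs (JH X H) := by
  obtain ⟨b₁, hb₁, k, hk, b₂, hb₂, e⟩ := hc
  obtain ⟨t₁, ht₁, u₁, hu₁, e₁⟩ := R.mem_B.1 (inv_mem hb₁)
  obtain ⟨t₂, ht₂, u₂, hu₂, e₂⟩ := R.mem_B.1 hb₂
  have e₁' : b₁ = u₁⁻¹ * t₁⁻¹ := by rw [← inv_inv b₁, e₁]; group
  refine mem_WJ_of_rp R hU (g := t₁⁻¹ * k * t₂) ?_ ?_
  · have := ((rp_of_mem (cs := cs) (hN := R.nsys) (inv_mem ht₁)).mul hk).mul
      (rp_of_mem (cs := cs) (hN := R.nsys) ht₂)
    rwa [one_mul, mul_one] at this
  · have : t₁⁻¹ * k * t₂ = u₁ * g * u₂⁻¹ := by rw [e, e₁', e₂]; group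
    rw [this]
    exact mul_mem (mul_mem (hU hu₁) hg) (inv_mem (hU hu₂))

theorem mul_cell {J : Set I} {v w : W} (hv : v ∈ WJ cs J) {a b : Y} (ha : Cell R.nsys cs h X v a)
    (hb : Cell R.nsys cs h X w b) : ∃ v' ∈ WJ cs J, Cell R.nsys cs h X (v' * w) (a * b) := by
  obtain ⟨ω, hω, rfl⟩ := exists_word_of_mem_WJ cs hv
  clear hv
  induction ω generalizing a with
  | nil =>
    rw [wordProd_nil] at ha
    exact ⟨1, one_mem _, by rw [one_mul]; exact hb.mul_left ha.mem_of_one⟩
  | cons i ω ih =>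
    have hω' : ∀ j ∈ ω, j ∈ J := fun j hj => hω j (by simp [hj])
    obtain ⟨b₁, hb₁, k, hk, b₂, hb₂, rfl⟩ := ha
    rw [wordProd_cons] at hk
    have h1 : Rp cs R.nsys (cs.wordProd ω) ((n i)⁻¹ * k) := by
      have := (rp_simple cs R.nsys i).inv.mul hk
      rwa [inv_mul_cancel_left] at this
    obtain ⟨v', hv', hc⟩ := ih hω' ((cell_of_rp h1).mul_right hb₂)
    have h2 : Cell R.nsys cs h X (cs.simple i) (b₁ * n i) :=
      (cell_of_rp (rp_simple cs R.nsys i)).mul_left hb₁
    have e : b₁ * k * b₂ * b = b₁ * n i * ((n i)⁻¹ * k * b₂ * b) := by group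
    rw [e]
    rcases Cell.simple_mul R h2 hc with h3 | ⟨-, h3⟩
    · refine ⟨cs.simple i * v', mul_mem (simple_mem_WJ cs (hω i (by simp))) hv', ?_⟩
      rwa [mul_assoc]
    · exact ⟨v', hv', h3⟩

/-- A proper overgroup of `U` misses a node. -/
theorem exists_not_mem (hG : RGD.Sup X {x | IsRoot cs h x} = ⊤) (hU : RGD.Sup X (RGD.Pos cs h) ≤ H)
    (hH : H ≠ ⊤) : ∃ s, s ∉ JH X H := by
  by_contra hcon
  push Not at hcon
  apply hH
  rw [eq_top_iff, ← hG]
  refine RGD.Sup_le fun x hx => ?_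
  obtain ⟨w, i, rfl⟩ := hx
  have hw : w ∈ WJ cs (JH X H) := by
    have : JH X H = (Set.univ : Set I) := Set.eq_univ_iff_forall.2 hcon
    rw [this, WJ_univ]
    exact Subgroup.mem_top _
  obtain ⟨k, hk, hk'⟩ := exists_rp_of_mem_WJ R hU hw
  rw [← R.conj_rp hk' (isRoot_sr cs h i)]
  intro y hy
  have h1 : k⁻¹ * y * k ∈ H := hU (RGD.le_Sup (S := RGD.Pos cs h) ⟨isRoot_sr cs h i, sr_nonneg i⟩ (mem_cj.1 hy))
  have h2 : y = k * (k⁻¹ * y * k) * k⁻¹ := by group
  rw [h2]
  exact mul_mem (mul_mem hk h1) (inv_mem hk)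

theorem GG_eq_top_of_gen (hG : RGD.Sup X {x | IsRoot cs h x} = ⊤) : GG cs h T X = ⊤ := by
  rw [eq_top_iff, ← hG]
  exact le_sup_right

/-- **A 2-transitive action with `U` in a point stabiliser.** -/
theorem twoT [Finite W] {Ω : Type*} [MulAction Y Ω] (hG : RGD.Sup X {x | IsRoot cs h x} = ⊤)
    (h2 : MulAction.IsMultiplyPretransitive Y Ω 2) (α : Ω)
    (hU : RGD.Sup X (RGD.Pos cs h) ≤ MulAction.stabilizer Y α) {s : I}
    (hs : s ∉ JH X (MulAction.stabilizer Y α)) : CoxTwo.TwoT cs s := by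
  set H := MulAction.stabilizer Y α with hH
  have hsub : WJ cs (JH X H) ≤ WJ cs {s}ᶜ := WJ_mono cs fun j hj hjs => hs (by
    have : j = s := hjs
    rwa [this] at hj)
  intro v w hv hw
  obtain ⟨g₁, hg₁⟩ := exists_rp cs R.nsys v
  obtain ⟨g₂, hg₂⟩ := exists_rp cs R.nsys w
  have hne₁ : g₁ • α ≠ α := fun e => hv (hsub (mem_WJ_of_rp R hU hg₁ e))
  have hne₂ : g₂ • α ≠ α := fun e => hw (hsub (mem_WJ_of_rp R hU hg₂ e))
  obtain ⟨k, hk₁, hk₂⟩ := (MulAction.is_two_pretransitive_iff (G := Y) (α := Ω)).1 h2 hne₁.symm hne₂.symm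
  -- `k ∈ H`, `k g₁ = g₂ k'`
  have hkH : k ∈ H := hk₁
  have hk'H : g₂⁻¹ * k * g₁ ∈ H := by
    rw [hH, MulAction.mem_stabilizer_iff, mul_smul, mul_smul, hk₂, inv_smul_smul]
  have hcell : ∀ g : Y, ∃ u, Cell R.nsys cs h X u g := fun g =>
    (mem_GG R).1 (by rw [GG_eq_top_of_gen R hG]; exact Subgroup.mem_top g)
  obtain ⟨a, ha⟩ := hcell k
  obtain ⟨b, hb⟩ := hcell (g₂⁻¹ * k * g₁)
  have haJ := cell_mem R hU ha hkH
  have hbJ := cell_mem R hU hb hk'H
  obtain ⟨a', ha', hc1⟩ := mul_cell R haJ ha (cell_of_rp hg₁)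
  obtain ⟨b', hb', hc2⟩ := mul_cell R (inv_mem hbJ) hb.inv (cell_of_rp (X := X) (h := h) hg₂.inv)
  have hc3 := hc2.inv
  have e : ((g₂⁻¹ * k * g₁)⁻¹ * g₂⁻¹)⁻¹ = k * g₁ := by group
  rw [e] at hc3
  have h3 := Cell.unique R hc1 hc3
  -- `a' v = w b'⁻¹`
  refine ⟨a', hsub ha', b', hsub hb', ?_⟩
  rw [h3]
  group

/-! ### connected diagrams -/

omit R in
/-- Roots of a disconnected diagram are supported on one of the parts. -/
theorem supp_or {J : Set I} (hJ : ∀ a ∈ J, ∀ b, b ∉ J → M a b = 2) {x : I → ℤ} (hx : IsRoot cs h x) :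
    (∀ b, b ∉ J → x b = 0) ∨ (∀ a ∈ J, x a = 0) := by
  have hA : ∀ a ∈ J, ∀ b, b ∉ J → A a b = 0 ∧ A b a = 0 := by
    intro a ha b hb
    have hab : a ≠ b := fun e => hb (e ▸ ha)
    rcases h.rel a b hab with h1 | h1 | h1 | h1
    · exact h1.2
    all_goals
      have := hJ a ha b hb
      omega
  have key : ∀ (i : I) (x : I → ℤ), ((∀ b, b ∉ J → x b = 0) ∨ (∀ a ∈ J, x a = 0)) →
      ((∀ b, b ∉ J → rep cs h (cs.simple i) x b = 0) ∨ (∀ a ∈ J, rep cs h (cs.simple i) x a = 0)) := by
    intro i x hx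
    rcases hx with hx | hx
    · left
      intro b hb
      by_cases hbi : b = i
      · subst hbi
        rw [rep_simple_apply_self, hx b hb, zero_sub, neg_eq_zero]
        unfold pairing
        refine Finset.sum_eq_zero fun a _ => ?_
        by_cases ha : a ∈ J
        · rw [(hA a ha b hb).2]; ring
        · rw [hx a ha]; ring
      · rw [rep_simple_apply cs h i x b hbi, hx b hb]
    · right
      intro a ha
      by_cases hai : a = i
      · subst hai
        rw [rep_simple_apply_self, hx a ha, zero_sub, neg_eq_zero]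
        unfold pairing
        refine Finset.sum_eq_zero fun b _ => ?_
        by_cases hb : b ∈ J
        · rw [hx b hb]; ring
        · rw [(hA a ha b hb).1]; ring
      · rw [rep_simple_apply cs h i x a hai, hx a ha]
  obtain ⟨w, i, rfl⟩ := hx
  induction w using cs.simple_induction_left with
  | one =>
    rw [map_one, Module.End.one_apply]
    by_cases hi : i ∈ J
    · left
      intro b hb
      rw [sr, Pi.single_apply, if_neg (by rintro rfl; exact hb hi)]
    · right
      intro a ha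
      rw [sr, Pi.single_apply, if_neg (by rintro rfl; exact hi ha)]
  | mul_simple_left w j ih =>
    rw [rep_mul_apply]
    exact key j _ ih

/-- **The diagram of a simple group is connected.** -/
theorem conn_of_simple [IsSimpleGroup Y] (hG : RGD.Sup X {x | IsRoot cs h x} = ⊤)
    (hc : Subgroup.center Y = ⊥) :
    ∀ J : Set I, J.Nonempty → J ≠ Set.univ → ∃ a ∈ J, ∃ b, b ∉ J ∧ M a b ≠ 2 := by
  intro J hne hJ1
  by_contra hcon
  push Not at hcon
  have hJ : ∀ a ∈ J, ∀ b, b ∉ J → M a b = 2 := hcon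
  set S1 : Set (I → ℤ) := {x | IsRoot cs h x ∧ ∀ b, b ∉ J → x b = 0} with hS1
  set S2 : Set (I → ℤ) := {x | IsRoot cs h x ∧ ∀ a ∈ J, x a = 0} with hS2
  have hne0 : ∀ {x : I → ℤ}, IsRoot cs h x → x ≠ 0 := fun hx => hx.ne_zero
  -- the two parts commute
  have hcomm : ∀ x ∈ S1, ∀ y ∈ S2, ∀ u ∈ X x, ∀ v ∈ X y, u * v = v * u := by
    rintro x ⟨hx, hx'⟩ y ⟨hy, hy'⟩ u hu v hv
    have h1 : x ≠ y := by
      rintro rfl
      refine hne0 hx (funext fun k => ?_)
      by_cases hk : k ∈ J
      · exact hy' k hk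
      · exact hx' k hk
    have h2 : x ≠ -y := by
      rintro rfl
      refine hne0 hy (funext fun k => ?_)
      by_cases hk : k ∈ J
      · exact hy' k hk
      · have := hx' k hk
        rw [Pi.neg_apply, neg_eq_zero] at this
        exact this
    have h3 := R.comm x y hx hy h1 h2 u hu v hv
    have h4 : btw cs h X x y = ⊥ := by
      rw [eq_bot_iff]
      refine iSup_le ?_
      rintro ⟨z, hz⟩
      exfalso
      obtain ⟨hzr, m, i, j, hm, hi, hj, e⟩ := hz
      have e' : ∀ k, m * z k = i * x k + j * y k := fun k => by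
        have := congrFun e k
        simpa using this
      rcases supp_or hJ hzr with hz1 | hz1
      · refine hne0 hy (funext fun k => ?_)
        by_cases hk : k ∈ J
        · exact hy' k hk
        · have := e' k
          rw [hz1 k hk, hx' k hk, mul_zero, mul_zero, zero_add] at this
          exact (mul_eq_zero.1 this.symm).resolve_left hj.ne'
      · refine hne0 hx (funext fun k => ?_)
        by_cases hk : k ∈ J
        · have := e' k
          rw [hz1 k hk, hy' k hk, mul_zero, mul_zero, add_zero] at this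
          exact (mul_eq_zero.1 this.symm).resolve_left hi.ne'
        · exact hx' k hk
    rw [h4, Subgroup.mem_bot, commutatorElement_eq_one_iff_mul_comm] at h3
    exact h3
  set N1 := RGD.Sup X S1 with hN1
  set N2 := RGD.Sup X S2 with hN2
  have hcN : ∀ u ∈ N1, ∀ v ∈ N2, u * v = v * u := by
    have h1 : N1 ≤ Subgroup.centralizer (N2 : Set Y) := by
      rw [hN1]
      refine RGD.Sup_le fun x hx u hu => ?_
      rw [Subgroup.mem_centralizer_iff]
      have h2 : N2 ≤ Subgroup.centralizer {u} := by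
        rw [hN2]
        refine RGD.Sup_le fun y hy v hv => ?_
        rw [Subgroup.mem_centralizer_singleton_iff]
        exact (hcomm x hx y hy u hu v hv).symm
      intro v hv
      exact Subgroup.mem_centralizer_singleton_iff.1 (h2 hv)
    intro u hu v hv
    exact ((Subgroup.mem_centralizer_iff.1 (h1 hu)) v hv).symm
  have htop : N1 ⊔ N2 = ⊤ := by
    rw [eq_top_iff, ← hG]
    refine RGD.Sup_le fun x hx => ?_
    rcases supp_or hJ hx with h1 | h1
    · exact le_trans (RGD.le_Sup (S := S1) ⟨hx, h1⟩) le_sup_left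
    · exact le_trans (RGD.le_Sup (S := S2) ⟨hx, h1⟩) le_sup_right
  have hnorm : N1.Normal := by
    rw [← Subgroup.normalizer_eq_top_iff, eq_top_iff, ← htop]
    refine sup_le Subgroup.le_normalizer fun v hv => ?_
    rw [Subgroup.mem_normalizer_iff]
    intro u
    constructor
    · intro hu
      have := hcN u hu v hv
      rw [← this, mul_inv_cancel_right]
      exact hu
    · intro hu
      have h1 := hcN _ hu v hv
      have h2 : v * u * v⁻¹ = u := by
        have h3 : v * u * v⁻¹ * v = v * (v * u * v⁻¹) := h1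
        have h4 : v * u * v⁻¹ * v = v * u := by group
        rw [h4] at h3
        exact (mul_left_cancel h3).symm
      rwa [h2] at hu
  obtain ⟨a, ha⟩ := hne
  obtain ⟨b, hb⟩ : ∃ b, b ∉ J := by
    by_contra h4
    push Not at h4
    exact hJ1 (Set.eq_univ_iff_forall.2 h4)
  have hXa : X (sr a) ≤ N1 := RGD.le_Sup (S := S1) ⟨isRoot_sr cs h a, fun k hk => by
    rw [sr, Pi.single_apply, if_neg (by rintro rfl; exact hk ha)]⟩
  have hXb : X (sr b) ≤ N2 := RGD.le_Sup (S := S2) ⟨isRoot_sr cs h b, fun k hk => by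
    rw [sr, Pi.single_apply, if_neg (by rintro rfl; exact hb hk)]⟩
  have ha1 := X_ne_bot R (isRoot_sr cs h a)
  have hb1 := X_ne_bot R (isRoot_sr cs h b)
  rcases hnorm.eq_bot_or_eq_top with h1 | h1
  · exact ha1 (eq_bot_iff.2 (h1 ▸ hXa))
  · apply hb1
    rw [eq_bot_iff, ← hc]
    intro v hv
    rw [Subgroup.mem_center_iff]
    intro g
    exact hcN g (h1 ▸ Subgroup.mem_top g) v (hXb hv)

/-- **2-transitive actions with `U` in a point stabiliser: the diagram has only simple bonds and no branch node.** -/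
theorem bonds [Finite W] [IsSimpleGroup Y] (hc : Subgroup.center Y = ⊥) {Ω : Type*} [MulAction Y Ω]
    (hG : RGD.Sup X {x | IsRoot cs h x} = ⊤) (h2 : MulAction.IsMultiplyPretransitive Y Ω 2) (α : Ω)
    (hU : RGD.Sup X (RGD.Pos cs h) ≤ MulAction.stabilizer Y α) (hα : MulAction.stabilizer Y α ≠ ⊤) :
    (∀ i k, i ≠ k → M i k = 2 ∨ M i k = 3) ∧
      ∀ k i₁ i₂ i₃, i₁ ≠ k → i₂ ≠ k → i₃ ≠ k → i₁ ≠ i₂ → i₁ ≠ i₃ → i₂ ≠ i₃ →
        M i₁ k ≠ 2 → M i₂ k ≠ 2 → M i₃ k ≠ 2 → False := by
  have := Fintype.ofFinite W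
  obtain ⟨s, hs⟩ := exists_not_mem R hG hU hα
  have hT := twoT R hG h2 α hU hs
  have hconn := conn_of_simple R hG hc
  exact ⟨fun i k hik => CoxTwo.le_three (h := h) hconn hT hik,
    fun k i₁ i₂ i₃ h1 h2 h3 h12 h13 h23 m1 m2 m3 =>
      CoxTwo.no_branch (h := h) hconn hT h1 h2 h3 h12 h13 h23 m1 m2 m3⟩

end Cfsg.Agent.H410.TwoTransRGD
end

private theorem dce_80e36fac1a4d : _root_.True := by
  try have : _root_.True := by simp only [_root_.Cfsg.Agent.H410.TwoTransRGD.JH.congr_simp]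
  exact _root_.True.intro
end

-- part: H682/CT/TwoPrime
section
set_option linter.all false
open scoped Cfsg.Agent.FastGrp

-- part: H682/CT/Defs
section
/-!
# Primes for the solvability of groups of central type (S4804)

* `NoExt p Q` : in every central extension of `Q` by a finite `p`-group, the kernel meets the derived subgroup
  trivially;
* `NoIdx p Q` : `Q` has no proper subgroup whose index is a power of `p`;
* `Fit S` : there is a prime `p` dividing `|S|` with both properties.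
-/

set_option autoImplicit false

namespace Cfsg.Agent.H682.CT

open Subgroup

universe u v w

/-- In every central extension of `Q` by a finite `p`-group, the kernel meets the derived subgroup trivially. -/
def NoExt (p : ℕ) (Q : Type u) [Group Q] : Prop :=
  ∀ (E : Type v) [Group E] [Finite E] (f : E →* Q), Function.Surjective f → f.ker ≤ center E →
    IsPGroup p f.ker → f.ker ⊓ commutator E = ⊥

/-- `Q` has no proper subgroup whose index is a power of `p`. -/
def NoIdx (p : ℕ) (Q : Type u) [Group Q] : Prop :=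
  ∀ (H : Subgroup Q) (k : ℕ), H.index = p ^ k → H = ⊤

/-- There is a prime divisor `p` of the order with `NoExt p` and `NoIdx p`. -/
def Fit (S : Type u) [Group S] : Prop :=
  ∃ p : ℕ, p.Prime ∧ p ∣ Nat.card S ∧ NoExt.{u, v} p S ∧ NoIdx p S

theorem NoExt.congr {p : ℕ} {Q : Type u} [Group Q] {Q' : Type w} [Group Q'] (e : Q ≃* Q') (h : NoExt.{u, v} p Q) :
    NoExt.{w, v} p Q' := by
  intro E _ _ f hf hz hp
  have hk : (e.symm.toMonoidHom.comp f).ker = f.ker := by
    ext x
    simp [MonoidHom.mem_ker]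
  have := h E (e.symm.toMonoidHom.comp f) (e.symm.surjective.comp hf) (by rwa [hk]) (by rwa [hk])
  rwa [hk] at this

theorem NoIdx.congr {p : ℕ} {Q : Type u} [Group Q] {Q' : Type w} [Group Q'] (e : Q ≃* Q') (h : NoIdx p Q) :
    NoIdx p Q' := by
  intro H k hH
  have h1 := h (H.comap e.toMonoidHom) k (by
    rw [Subgroup.index_comap_of_surjective _ e.surjective, hH])
  rw [eq_top_iff]
  intro x _
  obtain ⟨y, rfl⟩ := e.surjective x
  have : y ∈ H.comap e.toMonoidHom := by rw [h1]; trivial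
  exact this

theorem Fit.congr {Q : Type u} [Group Q] {Q' : Type w} [Group Q'] (e : Q ≃* Q') (h : Fit.{u, v} Q) :
    Fit.{w, v} Q' := by
  obtain ⟨p, hp, h1, h2, h3⟩ := h
  exact ⟨p, hp, by rwa [← Nat.card_congr e.toEquiv], h2.congr e, h3.congr e⟩

end Cfsg.Agent.H682.CT
end

-- part: H682/CT/Crit
section
/-!
# Criteria for `Fit`

* `noExt_of_cyclic` : perfect groups with cyclic Sylow `p`-subgroups satisfy `NoExt p`;
* `fit_of_two` : `S` simple with nontrivial cyclic Sylow subgroups for two different primes;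
* `fit_of_not_dvd` : `S` simple with a nontrivial cyclic Sylow `p`-subgroup of order `m` and `|S| ∤ m!`.
-/

set_option autoImplicit false

namespace Cfsg.Agent.H682.CT

open Subgroup
open scoped commutatorElement

universe u v w

/-- a central extension of a perfect group: `E = E' Z` -/
theorem exists_mul_ker {Q : Type u} [Group Q] (hQ : commutator Q = ⊤) {E : Type v} [Group E] (f : E →* Q)
    (hf : Function.Surjective f) (x : E) : ∃ y ∈ commutator E, ∃ z ∈ f.ker, x = y * z := by
  have hmap : (commutator E).map f = ⊤ := by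
    rw [commutator_def, Subgroup.map_commutator, ← MonoidHom.range_eq_map, MonoidHom.range_eq_top.2 hf,
      ← commutator_def, hQ]
  have h1 : f x ∈ (commutator E).map f := by rw [hmap]; trivial
  obtain ⟨y, hy, hxy⟩ := h1
  refine ⟨y, hy, y⁻¹ * x, ?_, by group⟩
  rw [MonoidHom.mem_ker, map_mul, map_inv, hxy]
  group

/-- a central extension of a perfect group has perfect derived subgroup -/
theorem commutator_perfect {Q : Type u} [Group Q] (hQ : commutator Q = ⊤) {E : Type v} [Group E] (f : E →* Q)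
    (hf : Function.Surjective f) (hz : f.ker ≤ center E) : ⁅commutator E, commutator E⁆ = commutator E := by
  apply le_antisymm (Subgroup.commutator_le_left _ _)
  rw [commutator_def, Subgroup.commutator_le]
  intro a _ b _
  obtain ⟨y, hy, z, hzk, rfl⟩ := exists_mul_ker hQ f hf a
  obtain ⟨y', hy', z', hzk', rfl⟩ := exists_mul_ker hQ f hf b
  have e1 : ∀ t : E, z * t = t * z := fun t => (mem_center_iff.1 (hz hzk) t).symm
  have e2 : ∀ t : E, z' * t = t * z' := fun t => (mem_center_iff.1 (hz hzk') t).symm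
  have : ⁅y * z, y' * z'⁆ = ⁅y, y'⁆ := by
    rw [commutatorElement_def, commutatorElement_def, _root_.mul_inv_rev, _root_.mul_inv_rev]
    calc y * z * (y' * z') * (z⁻¹ * y⁻¹) * (z'⁻¹ * y'⁻¹)
        = y * (z * (y' * z')) * z⁻¹ * y⁻¹ * z'⁻¹ * y'⁻¹ := by group
      _ = y * ((y' * z') * z) * z⁻¹ * y⁻¹ * z'⁻¹ * y'⁻¹ := by rw [e1]
      _ = y * y' * (z' * (y⁻¹)) * z'⁻¹ * y'⁻¹ := by group
      _ = y * y' * ((y⁻¹) * z') * z'⁻¹ * y'⁻¹ := by rw [e2]
      _ = y * y' * y⁻¹ * y'⁻¹ := by group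
  rw [this]
  exact Subgroup.commutator_mem_commutator hy hy'

theorem noExt_of_cyclic {p : ℕ} (hp : p.Prime) {Q : Type u} [Group Q] [Finite Q] (hQ : commutator Q = ⊤)
    (hc : ∀ P : Sylow p Q, IsCyclic P) : NoExt.{u, v} p Q := by
  have : Fact p.Prime := ⟨hp⟩
  intro E _ _ f hf hz hpk
  have hperf := commutator_perfect hQ f hf hz
  -- the restriction of `f` to `E'`
  let σ : commutator E →* Q := f.comp (commutator E).subtype
  have hσ : Function.Surjective σ := by
    intro q
    obtain ⟨x, rfl⟩ := hf q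
    obtain ⟨y, hy, z, hz', rfl⟩ := exists_mul_ker hQ f hf x
    exact ⟨⟨y, hy⟩, by simp [σ, MonoidHom.mem_ker.1 hz']⟩
  have hσz : σ.ker ≤ center (commutator E) := by
    intro x hx
    rw [mem_center_iff]
    intro y
    apply Subtype.ext
    have : (x : E) ∈ center E := hz (by simpa [σ, MonoidHom.mem_ker] using hx)
    exact mem_center_iff.1 this y
  have hcom : commutator (commutator E) = ⊤ := by
    have h1 : (commutator (commutator E)).map (commutator E).subtype = (⊤ : Subgroup (commutator E)).map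
        (commutator E).subtype := by
      rw [_root_.commutator_def (commutator E), Subgroup.map_commutator, ← MonoidHom.range_eq_map, Subgroup.range_subtype,
        hperf]
    exact Subgroup.map_injective (Subgroup.subtype_injective _) h1
  have h1 := Cfsg.Agent.S0102.result hQ hc σ hσ hσz hcom
  rw [eq_bot_iff]
  intro x hx
  obtain ⟨hx1, hx2⟩ := mem_inf.1 hx
  have hx3 : (⟨x, hx2⟩ : commutator E) ∈ σ.ker := by simpa [σ, MonoidHom.mem_ker] using hx1
  by_contra hne
  rw [mem_bot] at hne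
  have hpk' : IsPGroup p σ.ker := by
    have hcomap : σ.ker = f.ker.comap (commutator E).subtype := by
      ext t
      simp [σ, MonoidHom.mem_ker, mem_subgroupOf]
    rw [hcomap]
    exact hpk.comap_subtype
  obtain ⟨n, hn⟩ := (IsPGroup.iff_card.1 hpk')
  rcases Nat.eq_zero_or_pos n with rfl | hn0
  · rw [pow_zero, Subgroup.card_eq_one] at hn
    rw [hn, mem_bot] at hx3
    exact hne (congrArg Subtype.val hx3)
  · exact h1 (by rw [hn]; exact dvd_pow_self p hn0.ne')

/-- An element of prime power order acting faithfully has a cycle of full length. -/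
theorem orderOf_le_card {G : Type u} [Group G] {X : Type v} [Finite X] [MulAction G X] {p c : ℕ} (hp : p.Prime)
    (x : G) (hx : orderOf x = p ^ c) (hfaith : ∀ g : G, (∀ y : X, g • y = y) → g = 1) (hX : Nonempty X) :
    p ^ c ≤ Nat.card X := by
  rcases Nat.eq_zero_or_pos c with rfl | hc
  · rw [pow_zero]
    exact Nat.card_pos
  have h1 : x ^ (p ^ (c - 1)) ≠ 1 := by
    intro h
    have := orderOf_dvd_of_pow_eq_one h
    rw [hx] at this
    have := (Nat.pow_dvd_pow_iff_le_right hp.one_lt).1 this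
    omega
  have h2 : ∃ y : X, x ^ (p ^ (c - 1)) • y ≠ y := by
    by_contra h
    push Not at h
    exact h1 (hfaith _ h)
  obtain ⟨y, hy⟩ := h2
  have h3 : Function.minimalPeriod (x • ·) y ∣ p ^ c := by
    rw [← MulAction.pow_smul_eq_iff_minimalPeriod_dvd, ← hx, pow_orderOf_eq_one, one_smul]
  have h4 : ¬ Function.minimalPeriod (x • ·) y ∣ p ^ (c - 1) := by
    rw [← MulAction.pow_smul_eq_iff_minimalPeriod_dvd]
    exact hy
  obtain ⟨k, hk, hk'⟩ := (Nat.dvd_prime_pow hp).1 h3
  have h5 : k = c := by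
    by_contra hne
    apply h4
    rw [hk']
    exact pow_dvd_pow p (by omega)
  subst h5
  rw [← hk']
  have := Fintype.ofFinite X
  have := Fintype.ofFinite (MulAction.orbit (zpowers x) y)
  rw [MulAction.minimalPeriod_eq_card, Nat.card_eq_fintype_card]
  exact Fintype.card_le_of_injective _ Subtype.val_injective

/-- simple groups act faithfully on the cosets of proper subgroups -/
theorem faithful_quotient {S : Type u} [Group S] [IsSimpleGroup S] {H : Subgroup S} (hH : H ≠ ⊤) (g : S)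
    (hg : ∀ y : S ⧸ H, g • y = y) : g = 1 := by
  have h1 : g ∈ H.normalCore := by
    rw [Subgroup.normalCore_eq_ker, MonoidHom.mem_ker]
    ext y
    exact hg y
  rcases IsSimpleGroup.eq_bot_or_eq_top_of_normal H.normalCore inferInstance with h | h
  · rw [h, mem_bot] at h1
    exact h1
  · exfalso
    apply hH
    rw [eq_top_iff, ← h]
    exact normalCore_le H

theorem commutator_eq_top {S : Type u} [Group S] [IsSimpleGroup S] (hna : ¬ ∀ a b : S, a * b = b * a) :
    commutator S = ⊤ := by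
  rcases IsSimpleGroup.eq_bot_or_eq_top_of_normal (commutator S) inferInstance with h | h
  · exfalso
    apply hna
    intro a b
    have h1 : ⁅a, b⁆ ∈ commutator S := by
      rw [commutator_def]
      exact Subgroup.commutator_mem_commutator trivial trivial
    rw [h, mem_bot, commutatorElement_eq_one_iff_mul_comm] at h1
    exact h1
  · exact h

theorem noIdx_of_lt {S : Type u} [Group S] [Finite S] [IsSimpleGroup S] {p : ℕ} (hp : p.Prime) {r c : ℕ}
    (hr : r.Prime) (x : S) (hx : orderOf x = r ^ c) (hlt : p ^ (Nat.card S).factorization p < r ^ c) :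
    NoIdx p S := by
  intro H k hk
  by_contra hne
  have h1 : r ^ c ≤ Nat.card (S ⧸ H) :=
    orderOf_le_card hr x hx (fun g hg => faithful_quotient hne g hg) ⟨QuotientGroup.mk 1⟩
  have h2 : Nat.card (S ⧸ H) = p ^ k := hk
  have h3 : p ^ k ∣ Nat.card S := by rw [← hk]; exact H.index_dvd_card
  have h4 : k ≤ (Nat.card S).factorization p := (hp.pow_dvd_iff_le_factorization Nat.card_pos.ne').1 h3
  have h5 : p ^ k ≤ p ^ (Nat.card S).factorization p := Nat.pow_le_pow_right hp.pos h4
  omega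

theorem noIdx_of_not_dvd {S : Type u} [Group S] [Finite S] [IsSimpleGroup S] {p : ℕ} (hp : p.Prime)
    (h : ¬ Nat.card S ∣ (p ^ (Nat.card S).factorization p).factorial) : NoIdx p S := by
  intro H k hk
  by_contra hne
  apply h
  have h3 : p ^ k ∣ Nat.card S := by rw [← hk]; exact H.index_dvd_card
  have h4 : k ≤ (Nat.card S).factorization p := (hp.pow_dvd_iff_le_factorization Nat.card_pos.ne').1 h3
  have h5 : p ^ k ≤ p ^ (Nat.card S).factorization p := Nat.pow_le_pow_right hp.pos h4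
  refine dvd_trans ?_ (Nat.factorial_dvd_factorial h5)
  have h6 : Nat.card (Equiv.Perm (S ⧸ H)) = (p ^ k).factorial := by
    rw [Nat.card_perm, ← hk]
    rfl
  rw [← h6]
  refine Subgroup.card_dvd_of_injective (MulAction.toPermHom S (S ⧸ H)) ?_
  rw [injective_iff_map_eq_one]
  intro g hg
  refine faithful_quotient hne g fun y => ?_
  have := congrArg (fun f : Equiv.Perm (S ⧸ H) => f y) hg
  exact this

/-- the generator of a cyclic Sylow subgroup -/
theorem exists_orderOf_eq {S : Type u} [Group S] [Finite S] {p : ℕ} (hp : p.Prime)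
    (hc : ∀ P : Sylow p S, IsCyclic P) : ∃ x : S, orderOf x = p ^ (Nat.card S).factorization p := by
  have : Fact p.Prime := ⟨hp⟩
  let P : Sylow p S := default
  obtain ⟨g, hg⟩ := (hc P).exists_generator
  refine ⟨g, ?_⟩
  rw [← P.card_eq_multiplicity, Subgroup.orderOf_coe]
  exact orderOf_eq_card_of_forall_mem_zpowers hg

theorem fit_of_two {S : Type u} [Group S] [Finite S] [IsSimpleGroup S] (hna : ¬ ∀ a b : S, a * b = b * a)
    {p₁ p₂ : ℕ} (hp₁ : p₁.Prime) (hp₂ : p₂.Prime) (hne : p₁ ≠ p₂) (hd₁ : p₁ ∣ Nat.card S) (hd₂ : p₂ ∣ Nat.card S)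
    (hc₁ : ∀ P : Sylow p₁ S, IsCyclic P) (hc₂ : ∀ P : Sylow p₂ S, IsCyclic P) : Fit.{u, v} S := by
  have hperf := commutator_eq_top hna
  obtain ⟨x₁, hx₁⟩ := exists_orderOf_eq hp₁ hc₁
  obtain ⟨x₂, hx₂⟩ := exists_orderOf_eq hp₂ hc₂
  rcases lt_trichotomy (p₁ ^ (Nat.card S).factorization p₁) (p₂ ^ (Nat.card S).factorization p₂) with h | h | h
  · exact ⟨p₁, hp₁, hd₁, noExt_of_cyclic hp₁ hperf hc₁, noIdx_of_lt hp₁ hp₂ x₂ hx₂ h⟩
  · exfalso
    have h1 : p₁ ∣ p₂ ^ (Nat.card S).factorization p₂ := by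
      rw [← h]
      refine dvd_pow_self p₁ ?_
      have := (hp₁.dvd_iff_one_le_factorization Nat.card_pos.ne').1 hd₁
      omega
    exact hne ((Nat.prime_dvd_prime_iff_eq hp₁ hp₂).1 (hp₁.dvd_of_dvd_pow h1))
  · exact ⟨p₂, hp₂, hd₂, noExt_of_cyclic hp₂ hperf hc₂, noIdx_of_lt hp₂ hp₁ x₁ hx₁ h⟩

theorem fit_of_not_dvd {S : Type u} [Group S] [Finite S] [IsSimpleGroup S] (hna : ¬ ∀ a b : S, a * b = b * a)
    {p : ℕ} (hp : p.Prime) (hd : p ∣ Nat.card S) (hc : ∀ P : Sylow p S, IsCyclic P)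
    (h : ¬ Nat.card S ∣ (p ^ (Nat.card S).factorization p).factorial) : Fit.{u, v} S :=
  ⟨p, hp, hd, noExt_of_cyclic hp (commutator_eq_top hna) hc, noIdx_of_not_dvd hp h⟩

/-- Sylow subgroups of prime order are cyclic. -/
theorem cyclic_of_factorization_le_one {S : Type u} [Group S] [Finite S] {p : ℕ} (hp : p.Prime)
    (h : (Nat.card S).factorization p ≤ 1) (P : Sylow p S) : IsCyclic P := by
  have : Fact p.Prime := ⟨hp⟩
  have h1 := P.card_eq_multiplicity
  rcases Nat.lt_or_ge ((Nat.card S).factorization p) 1 with h2 | h2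
  · have h3 : (Nat.card S).factorization p = 0 := by omega
    rw [h3, pow_zero] at h1
    have : Subsingleton P := (Nat.card_eq_one_iff_unique.1 h1).1
    exact isCyclic_of_subsingleton
  · have h3 : (Nat.card S).factorization p = 1 := by omega
    rw [h3, pow_one] at h1
    exact isCyclic_of_prime_card h1

end Cfsg.Agent.H682.CT
end

-- part: H682/CT/TwoPrime
section
/-!
# Subgroups of prime power index in groups with a root group datum: at most one prime

`S` a finite simple group with a root group datum of characteristic `r`. For two different primes `p₁, p₂ ≠ r` one of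
`NoIdx p₁ S`, `NoIdx p₂ S` holds: otherwise `S` would be the product of two proper subgroups containing `U`, and then the
Weyl group would be the product of two proper parabolic subgroups.
-/

set_option autoImplicit false

namespace Cfsg.Agent.H682.CT.TwoPrime

open CoxeterSystem Cfsg.Agent.ChevalleyStructure.CoxeterGeom Cfsg.Agent.Tits.Roots Cfsg.Agent.Tits.Core
  Cfsg.Agent.Tits.Exchange Cfsg.Agent.Nodes.Reps Cfsg.Agent.Nodes.BNOf Cfsg.Agent.Nodes.Bruhat
  Cfsg.Agent.Nodes.RGDLib Cfsg.Agent.H410.CoxTwo Cfsg.Agent.H410.TwoTransRGD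

section Cox

variable {I W : Type*} [Fintype I] [DecidableEq I] [Group W] [Fintype W] {M : CoxeterMatrix I}
  (cs : CoxeterSystem M W) {A : I → I → ℤ} (h : IsCartan M A)

include h

/-- a connected finite Weyl group is not a product of two proper parabolic subgroups -/
theorem exists_ne_mul (hconn : ∀ J : Set I, J.Nonempty → J ≠ Set.univ → ∃ a ∈ J, ∃ b, b ∉ J ∧ M a b ≠ 2) (s t : I) :
    ∃ w : W, ∀ v₁ ∈ WJ cs {s}ᶜ, ∀ v₂ ∈ WJ cs {t}ᶜ, w ≠ v₁ * v₂ := by
  by_contra hcon
  push Not at hcon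
  set l := lam cs h t with hl
  have h1 : ∀ w, rep cs h w l s = l s := by
    intro w
    obtain ⟨v₁, hv₁, v₂, hv₂, rfl⟩ := hcon w
    rw [rep_mul_apply, lam_fix cs h hv₂, rep_apply_self cs h hv₁]
  set K : Set I := {k | ∀ w, pairing A k (rep cs h w l) = 0} with hK
  have hs : s ∈ K := by
    intro w
    have h2 := h1 (cs.simple s * w)
    rw [rep_mul_apply, rep_simple_apply_self, h1 w] at h2
    linarith
  have hKu : K = Set.univ := by
    by_contra hne
    obtain ⟨a, ha, b, hb, hab⟩ := hconn K ⟨s, hs⟩ hne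
    apply hb
    intro w
    have hne' : a ≠ b := by
      rintro rfl
      exact hb ha
    have h3 := ha (cs.simple b * w)
    rw [rep_mul_apply, pairing_simple (h := h) b a, ha w, zero_sub, neg_eq_zero, mul_eq_zero] at h3
    rcases h3 with h3 | h3
    · exact h3
    · exfalso
      rcases h.rel a b hne' with h4 | h4 | h4 | h4
      · exact hab h4.1
      all_goals omega
  have h5 := pairing_lam_self cs h t
  have h6 : t ∈ K := by rw [hKu]; exact Set.mem_univ _
  have h7 := h6 1
  rw [map_one, Module.End.one_apply] at h7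
  rw [h7] at h5
  exact lt_irrefl _ h5

end Cox

section RGD

variable {I W Y : Type*} [Fintype I] [DecidableEq I] [Group W] [Group Y] {M : CoxeterMatrix I}
  {cs : CoxeterSystem M W} {A : I → I → ℤ} {h : IsCartan M A} {p : ℕ} {T : Subgroup Y} {n : I → Y}
  {X : (I → ℤ) → Subgroup Y}

/-- A simple group is not a product of two proper subgroups containing `U`. -/
theorem exists_ne_mul_of_le (R : RGD cs h p T n X) [Finite W] [IsSimpleGroup Y] (hc : Subgroup.center Y = ⊥)
    (hG : RGD.Sup X {x | IsRoot cs h x} = ⊤) {H₁ H₂ : Subgroup Y} (hU₁ : RGD.Sup X (RGD.Pos cs h) ≤ H₁)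
    (hU₂ : RGD.Sup X (RGD.Pos cs h) ≤ H₂) (h₁ : H₁ ≠ ⊤) (h₂ : H₂ ≠ ⊤) : ∃ g : Y, ∀ a ∈ H₁, ∀ b ∈ H₂, g ≠ a * b := by
  classical
  have := Fintype.ofFinite W
  obtain ⟨s, hs⟩ := exists_not_mem R hG hU₁ h₁
  obtain ⟨t, ht⟩ := exists_not_mem R hG hU₂ h₂
  obtain ⟨w, hw⟩ := exists_ne_mul cs h (conn_of_simple R hG hc) s t
  obtain ⟨g, hg⟩ := exists_rp cs R.nsys w
  refine ⟨g, fun a ha b hb hgab => ?_⟩
  have hsub : ∀ {H : Subgroup Y} {s : I}, s ∉ JH X H → WJ cs (JH X H) ≤ WJ cs {s}ᶜ := fun {H s} hs =>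
    WJ_mono cs fun j hj hjs => hs (by
      have : j = s := hjs
      rwa [this] at hj)
  have hcell : ∀ g : Y, ∃ u, Cell R.nsys cs h X u g := fun g =>
    (mem_GG R).1 (by rw [GG_eq_top_of_gen R hG]; exact Subgroup.mem_top g)
  obtain ⟨v₁, hv₁⟩ := hcell a
  obtain ⟨v₂, hv₂⟩ := hcell b
  have h1 := cell_mem R hU₁ hv₁ ha
  have h2 := cell_mem R hU₂ hv₂ hb
  obtain ⟨v', hv', hc'⟩ := mul_cell R h1 hv₁ hv₂
  rw [← hgab] at hc'
  exact hw v' (hsub hs hv') v₂ (hsub ht h2) (Cell.unique R (cell_of_rp hg) hc')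

end RGD

/-- subgroups of coprime indices -/
theorem exists_mul_of_coprime {G : Type*} [Group G] [Finite G] {H K : Subgroup G} (hc : H.index.Coprime K.index)
    (g : G) : ∃ a ∈ H, ∃ b ∈ K, g = a * b := by
  have h1 : K.relIndex H = K.index := by
    apply le_antisymm
    · have h3 := Subgroup.relIndex_le_of_le_right (H := K) (K := H) (L := ⊤) le_top
        (by rw [Subgroup.relIndex_top_right]; exact Subgroup.FiniteIndex.index_ne_zero)
      rwa [Subgroup.relIndex_top_right] at h3
    · have h2 : (H ⊓ K).relIndex H * H.index = (H ⊓ K).index := Subgroup.relIndex_mul_index inf_le_left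
      have h3 : (H ⊓ K).relIndex K * K.index = (H ⊓ K).index := Subgroup.relIndex_mul_index inf_le_right
      rw [Subgroup.inf_relIndex_left] at h2
      have h4 : K.index ∣ K.relIndex H * H.index := by
        rw [h2, ← h3]; exact dvd_mul_left _ _
      have h5 := hc.symm.dvd_of_dvd_mul_right h4
      refine Nat.le_of_dvd (Nat.pos_of_ne_zero ?_) h5
      exact Subgroup.FiniteIndex.index_ne_zero
  -- the orbit of `H` on the cosets of `K`
  have h2 : (MulAction.orbit H ((1 : G) : G ⧸ K)).ncard = K.index := by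
    rw [← h1, ← MulAction.index_stabilizer]
    unfold Subgroup.relIndex
    congr 1
    ext x
    rw [MulAction.mem_stabilizer_iff, Subgroup.mem_subgroupOf]
    change (x : G) • ((1 : G) : G ⧸ K) = ((1 : G) : G ⧸ K) ↔ _
    rw [MulAction.Quotient.smul_coe, smul_eq_mul, mul_one, QuotientGroup.eq]
    simp
  have h3 : MulAction.orbit H ((1 : G) : G ⧸ K) = Set.univ := by
    apply Set.eq_of_subset_of_ncard_le (Set.subset_univ _)
    rw [Set.ncard_univ, h2]
    rfl
  have h4 : (g : G ⧸ K) ∈ MulAction.orbit H ((1 : G) : G ⧸ K) := by rw [h3]; trivial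
  obtain ⟨a, ha⟩ := h4
  have h5 : (((a : G) : G) : G ⧸ K) = (g : G ⧸ K) := by
    rw [← ha]
    change _ = (a : G) • ((1 : G) : G ⧸ K)
    rw [MulAction.Quotient.smul_coe, smul_eq_mul, mul_one]
  rw [QuotientGroup.eq] at h5
  exact ⟨a, a.2, (a : G)⁻¹ * g, h5, by group⟩

/-- an `r`-subgroup lies in a conjugate of each subgroup of index prime to `r` -/
theorem exists_conj_le {G : Type*} [Group G] [Finite G] {r : ℕ} [Fact r.Prime] {U H : Subgroup G} (hU : IsPGroup r U)
    (hH : ¬ r ∣ H.index) : ∃ g : G, U ≤ H.map (MulAut.conj g).toMonoidHom := by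
  obtain ⟨x, hx⟩ := hU.nonempty_fixed_point_of_prime_not_dvd_card (G ⧸ H) (by rwa [← Subgroup.index_eq_card])
  obtain ⟨g, rfl⟩ := QuotientGroup.mk_surjective x
  refine ⟨g, fun u hu => ?_⟩
  have h1 := hx ⟨u, hu⟩
  change u • (g : G ⧸ H) = _ at h1
  rw [MulAction.Quotient.smul_coe, smul_eq_mul, eq_comm, QuotientGroup.eq] at h1
  refine ⟨g⁻¹ * u * g, ?_, by simp [mul_assoc]⟩
  rw [← mul_assoc] at h1
  exact h1

theorem index_conj {G : Type*} [Group G] (H : Subgroup G) (g : G) :
    (H.map (MulAut.conj g).toMonoidHom).index = H.index := by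
  rw [Subgroup.index_map_of_bijective (MulAut.conj g).bijective]

variable {S : Type*} [Group S] [Finite S] [IsSimpleGroup S]

/-- **At most one prime different from the characteristic.** -/
theorem noIdx_or (hc : Subgroup.center S = ⊥) {r : ℕ} (hr : r.Prime) (hS : Nodes.RGDChev.HasRGD r S) {p₁ p₂ : ℕ}
    (hp₁ : p₁.Prime) (hp₂ : p₂.Prime) (hne : p₁ ≠ p₂) (h₁ : p₁ ≠ r) (h₂ : p₂ ≠ r) : NoIdx p₁ S ∨ NoIdx p₂ S := by
  by_contra hcon
  push Not at hcon
  obtain ⟨hn₁, hn₂⟩ := hcon
  unfold NoIdx at hn₁ hn₂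
  push Not at hn₁ hn₂
  obtain ⟨H₁, k₁, hi₁, ht₁⟩ := hn₁
  obtain ⟨H₂, k₂, hi₂, ht₂⟩ := hn₂
  obtain ⟨l, M, A, h, T, n, X, hW, R, hX⟩ := hS
  have : Fact r.Prime := ⟨hr⟩
  have hU : IsPGroup r ↥(RGD.Sup X (RGD.Pos M.toCoxeterSystem h)) := R.isPGroup_Upos
  have key : ∀ (H : Subgroup S) (p k : ℕ), p.Prime → p ≠ r → H.index = p ^ k → ¬ r ∣ H.index := by
    intro H p k hp hpr hi hd
    rw [hi] at hd
    exact hpr ((Nat.prime_dvd_prime_iff_eq hr hp).1 (hr.dvd_of_dvd_pow hd)).symm
  obtain ⟨g₁, hg₁⟩ := exists_conj_le hU (key H₁ p₁ k₁ hp₁ h₁ hi₁)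
  obtain ⟨g₂, hg₂⟩ := exists_conj_le hU (key H₂ p₂ k₂ hp₂ h₂ hi₂)
  have hnt : ∀ (H : Subgroup S) (g : S), H ≠ ⊤ → H.map (MulAut.conj g).toMonoidHom ≠ ⊤ := by
    intro H g hH h0
    apply hH
    rw [← Subgroup.index_eq_one, ← index_conj H g, h0, Subgroup.index_top]
  obtain ⟨x, hx⟩ := exists_ne_mul_of_le R hc hX hg₁ hg₂ (hnt H₁ g₁ ht₁) (hnt H₂ g₂ ht₂)
  have hcop : (H₁.map (MulAut.conj g₁).toMonoidHom).index.Coprime (H₂.map (MulAut.conj g₂).toMonoidHom).index := by
    rw [index_conj, index_conj, hi₁, hi₂]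
    exact Nat.Coprime.pow _ _ ((Nat.coprime_primes hp₁ hp₂).2 hne)
  obtain ⟨a, ha, b, hb, hab⟩ := exists_mul_of_coprime hcop x
  exact hx a ha b hb hab

end Cfsg.Agent.H682.CT.TwoPrime
end
end
end
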